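import Groth.Agent.Lib.VarDim.Semicont
import Groth.Agent.Lib.Flat55.ResTrdegBC
import Groth.Prelude.Def_RegImm
import Mathlib.RingTheory.Ideal.KrullsHeightTheorem

/-!
# Dimension bounds on schemes of finite type over a field: fibre strata, base change, regular cuts
-/

set_option autoImplicit false
set_option linter.style.haveILetI false

universe u

namespace Groth.Agent.H75.VarDimX

open AlgebraicGeometry CategoryTheory TopologicalSpace
open Groth.Agent.Lib.Cyc Groth.Agent.Lib.VarDim.Basic Groth.Agent.Lib.VarDim.Fibre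
open Groth.Agent.Lib.VarDim.Semicont

variable {K : Type u} [Field K] {C X S : Scheme.{u}}

theorem arith {a b c : ℕ} {E D : WithBot ℕ∞} (h : (a : WithBot ℕ∞) ≤ E)
    (h2 : E + D ≤ (b : WithBot ℕ∞) + (c : WithBot ℕ∞)) (h3 : (c : WithBot ℕ∞) < D) (hab : b ≤ a) :
    False := by
  have h4 : (a : WithBot ℕ∞) + D ≤ ((b + c : ℕ) : WithBot ℕ∞) := by
    push_cast
    exact le_trans (add_le_add_left h D) h2
  induction D using WithBot.recBotCoe with
  | bot => exact absurd h3 (not_lt_bot)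
  | coe D =>
    induction D using ENat.recTopCoe with
    | top =>
      have e : (a : WithBot ℕ∞) + ((⊤ : ℕ∞) : WithBot ℕ∞) = ((⊤ : ℕ∞) : WithBot ℕ∞) := by
        rw [show (a : WithBot ℕ∞) = ((a : ℕ∞) : WithBot ℕ∞) from rfl, ← WithBot.coe_add, add_top]
      rw [e, show ((b + c : ℕ) : WithBot ℕ∞) = (((b + c : ℕ) : ℕ∞) : WithBot ℕ∞) from rfl, WithBot.coe_le_coe,
        top_le_iff] at h4
      exact ENat.natCast_ne_top _ h4
    | coe D =>
      have h3' : c < D := by exact_mod_cast h3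
      have h4' : a + D ≤ b + c := by exact_mod_cast h4
      omega

/-- A point of the closure of the image of a closed set. -/
theorem exists_specializes_of_mem_closure_image (π : C ⟶ X) [QuasiCompact π] {T : Set C} (hT : IsClosed T)
    {y : X} (hy : y ∈ closure (π.base '' T)) : ∃ t ∈ T, π.base t ⤳ y := by
  let Tc : Closeds C := ⟨T, hT⟩
  let ι := (Scheme.IdealSheafData.vanishingIdeal Tc).subschemeι
  have hrange : Set.range ι = T := by
    simp [ι, Scheme.IdealSheafData.range_subschemeι, Scheme.IdealSheafData.coe_support_vanishingIdeal, Tc]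
  have hy' : y ∈ closure (Set.range (ι ≫ π)) := by
    refine closure_mono ?_ hy
    rintro _ ⟨t, ht, rfl⟩
    rw [← hrange] at ht
    obtain ⟨s, rfl⟩ := ht
    exact ⟨s, rfl⟩
  obtain ⟨s, hs⟩ := Groth.Agent.Lib.VarDim.Fibre.exists_specializes_of_mem_closure_range (ι ≫ π) hy'
  exact ⟨ι s, hrange.subset ⟨s, rfl⟩, hs⟩

/-- Points with fibre dimension at least `j`. -/
def stratum (π : C ⟶ X) (j : ℕ) : Set X :=
  {x : X | (j : WithBot ℕ∞) ≤ topologicalKrullDim (π.fiber x)}

theorem mem_stratum_iff (π : C ⟶ X) [LocallyOfFiniteType π] {x : X} {j : ℕ} :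
    x ∈ stratum π j ↔ ∃ c, π.base c = x ∧ j ≤ tdAt π c := by
  have e : topologicalKrullDim (π.fiber x) = topologicalKrullDim ↥(π.base ⁻¹' {x}) :=
    (π.fiberHomeo x).isHomeomorph.topologicalKrullDim_eq _
  show (j : WithBot ℕ∞) ≤ topologicalKrullDim (π.fiber x) ↔ _
  rw [e]
  constructor
  · exact exists_tdAt_ge π x j
  · rintro ⟨c, rfl, hc⟩
    exact le_trans (by exact_mod_cast hc) (tdAt_le_topologicalKrullDim_fibre π c)

theorem exists_of_mem_closure_stratum (π : C ⟶ X) [LocallyOfFiniteType π] [QuasiCompact π] {x : X} {j : ℕ}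
    (hx : x ∈ closure (stratum π j)) : ∃ w, π.base w ⤳ x ∧ j ≤ tdAt π w := by
  rcases Nat.eq_zero_or_pos j with rfl | hj
  · have : x ∈ closure (Set.range π.base) := by
      refine closure_mono ?_ hx
      intro z hz
      obtain ⟨c, rfl, -⟩ := (mem_stratum_iff π).1 hz
      exact ⟨c, rfl⟩
    obtain ⟨c, hc⟩ := Groth.Agent.Lib.VarDim.Fibre.exists_specializes_of_mem_closure_range π this
    exact ⟨c, hc, Nat.zero_le _⟩
  let T : Set C := {c | FlatMor.fibreDimAt π c ≤ ((j - 1 : ℕ) : WithBot ℕ∞)}ᶜ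
  have hT : IsClosed T := (Groth.Agent.Lib.FibreDim.Semicont.isOpen_setOf_fibreDimAt_le π _).isClosed_compl
  have hsub : stratum π j ⊆ π.base '' T := by
    intro z hz
    obtain ⟨c, rfl, hc⟩ := (mem_stratum_iff π).1 hz
    refine ⟨c, fun h => ?_, rfl⟩
    have h1 : (tdAt π c : WithBot ℕ∞) ≤ ((j - 1 : ℕ) : WithBot ℕ∞) :=
      (tdAt_le_fibreDimAt π specializes_rfl rfl).trans h
    norm_cast at h1
    omega
  obtain ⟨t, ht, htx⟩ := exists_specializes_of_mem_closure_image π hT (closure_mono hsub hx)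
  obtain ⟨w, hw, hle⟩ := exists_fibreDimAt_le_tdAt π t
  refine ⟨w, hw.symm ▸ htx, ?_⟩
  by_contra hlt
  apply ht
  refine hle.trans ?_
  exact_mod_cast (by omega : tdAt π w ≤ j - 1)

/-- Fibres all of dimension `d`, in residual transcendence degrees. -/
def FibDim (φ : C ⟶ X) (d : ℕ) : Prop :=
  (∀ c, Residue.trdegAt φ c ≤ (d : Cardinal)) ∧
    ∀ x, ∃ c, φ.base c = x ∧ (d : Cardinal) ≤ Residue.trdegAt φ c

theorem FibDim.baseChange {C' X' : Scheme.{u}} {φ : C ⟶ X} {φ' : C' ⟶ X'} {g' : C' ⟶ C} {g : X' ⟶ X}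
    (sq : IsPullback g' φ' φ g) {d : ℕ} (h : FibDim φ d) : FibDim φ' d := by
  refine ⟨fun c => (Groth.Agent.Lib.Flat55.ResTrdegBC.trdegAt_le sq c).trans (h.1 _), fun x' => ?_⟩
  obtain ⟨c, hc, hd⟩ := h.2 (g.base x')
  obtain ⟨c', -, hc', hle⟩ := Groth.Agent.Lib.Flat55.ResTrdegBC.exists_trdegAt_ge sq c x' hc
  exact ⟨c', hc', hd.trans hle⟩

theorem fibDim_of_fiber (φ : C ⟶ X) [LocallyOfFiniteType φ] (d : ℕ)
    (hd : ∀ x, topologicalKrullDim (φ.fiber x) = d) : FibDim φ d := by
  have key : ∀ c, Residue.trdegAt φ c = (tdAt φ c : Cardinal) := fun c => by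
    have h := FieldDim.trdegAt_fiber φ (φ.base c) (φ.asFiber c)
    rw [φ.fiberι_asFiber] at h
    haveI : LocallyOfFiniteType (X := φ.fiber (φ.base c)) (Y := Spec (CommRingCat.of (X.residueField (φ.base c))))
        (φ.fiberToSpecResidueField (φ.base c)) :=
      inferInstanceAs (LocallyOfFiniteType (Limits.pullback.snd φ (X.fromSpecResidueField (φ.base c))))
    have h2 := trdegAt_eq_pdim (K := X.residueField (φ.base c)) (φ.fiberToSpecResidueField (φ.base c)) (φ.asFiber c)
    rw [h2] at h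
    rw [← h, tdAt, ← h, Cardinal.toNat_natCast]
  refine ⟨fun c => ?_, fun x => ?_⟩
  · rw [key]
    have h := tdAt_le_topologicalKrullDim_fibre φ c
    rw [← (φ.fiberHomeo (φ.base c)).isHomeomorph.topologicalKrullDim_eq _, hd] at h
    exact_mod_cast h
  · obtain ⟨c, hc, hle⟩ := exists_tdAt_ge φ x d
      (by rw [← (φ.fiberHomeo x).isHomeomorph.topologicalKrullDim_eq _, hd])
    exact ⟨c, hc, by rw [key]; exact_mod_cast hle⟩

/-- Dimension of the preimage of a locally closed set. -/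
theorem topologicalKrullDim_preimage (φ : C ⟶ X) (qC : C ⟶ Spec (CommRingCat.of K))
    (qX : X ⟶ Spec (CommRingCat.of K)) [LocallyOfFiniteType qC] [LocallyOfFiniteType qX] (hφ : φ ≫ qX = qC)
    {d : ℕ} (h : FibDim φ d) {T : Set X} (hT : IsLocallyClosed T) :
    topologicalKrullDim ↥(φ.base ⁻¹' T) = topologicalKrullDim ↥T + (d : WithBot ℕ∞) := by
  have hT' : IsLocallyClosed (φ.base ⁻¹' T) := hT.preimage φ.continuous
  have htd : ∀ c, tdAt φ c ≤ d := fun c => by
    have := Cardinal.toNat_le_toNat (h.1 c) Cardinal.natCast_lt_aleph0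
    rwa [Cardinal.toNat_natCast] at this
  have hge : ∀ x, ∃ c, φ.base c = x ∧ d ≤ tdAt φ c := fun x => by
    obtain ⟨c, hc, hle⟩ := h.2 x
    refine ⟨c, hc, ?_⟩
    have := Cardinal.toNat_le_toNat hle ((h.1 c).trans_lt Cardinal.natCast_lt_aleph0)
    rwa [Cardinal.toNat_natCast] at this
  refine le_antisymm ((topologicalKrullDim_le_iff qC hT' _).2 fun c hc => ?_) ?_
  · have h1 := pdim_le_topologicalKrullDim qX hT (show φ.base c ∈ T from hc)
    rw [pdim_eq_add qC qX φ hφ c, Nat.cast_add]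
    exact add_le_add h1 (by exact_mod_cast htd c)
  · rcases T.eq_empty_or_nonempty with rfl | ⟨x₀, hx₀⟩
    · rw [le_bot_iff.1 ((topologicalKrullDim_le_iff qX hT ⊥).2 (fun x hx => hx.elim)), WithBot.bot_add]
      exact bot_le
    · obtain ⟨n, hn⟩ : ∃ n : WithBot ℕ∞, n = topologicalKrullDim ↥(φ.base ⁻¹' T) := ⟨_, rfl⟩
      rw [← hn]
      have key : ∀ x ∈ T, ((pdim qX x + d : ℕ) : WithBot ℕ∞) ≤ n := fun x hx => by
        obtain ⟨c, rfl, hle⟩ := hge x
        rw [hn]
        refine le_trans ?_ (pdim_le_topologicalKrullDim qC hT' (show c ∈ φ.base ⁻¹' T from hx))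
        rw [pdim_eq_add qC qX φ hφ c]
        exact_mod_cast (by omega : pdim qX (φ.base c) + d ≤ pdim qX (φ.base c) + tdAt φ c)
      induction n using WithBot.recBotCoe with
      | bot => exact absurd (key x₀ hx₀) (by rw [le_bot_iff]; exact WithBot.natCast_ne_bot _)
      | coe n =>
        induction n using ENat.recTopCoe with
        | top => exact le_top
        | coe n =>
          have hnd : d ≤ n := by
            have := key x₀ hx₀
            have : pdim qX x₀ + d ≤ n := by exact_mod_cast this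
            omega
          have : topologicalKrullDim ↥T ≤ ((n - d : ℕ) : WithBot ℕ∞) :=
            (topologicalKrullDim_le_iff qX hT _).2 fun x hx => by
              have : pdim qX x + d ≤ n := by exact_mod_cast key x hx
              exact_mod_cast (by omega : pdim qX x ≤ n - d)
          refine le_trans (add_le_add_left this _) ?_
          have h5 : n - d + d ≤ n := by omega
          rw [← Nat.cast_add]
          exact WithBot.coe_le_coe.2 (Nat.cast_le.2 h5)


theorem add_nat_le_iff {T : Set X} (qX : X ⟶ Spec (CommRingCat.of K)) [LocallyOfFiniteType qX]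
    (hT : IsLocallyClosed T) (j n : ℕ) :
    topologicalKrullDim ↥T + (j : WithBot ℕ∞) ≤ n ↔ ∀ x ∈ T, pdim qX x + j ≤ n := by
  constructor
  · intro h x hx
    exact_mod_cast le_trans (add_le_add_left (pdim_le_topologicalKrullDim qX hT hx) _) h
  · intro h
    rcases T.eq_empty_or_nonempty with rfl | ⟨x₀, hx₀⟩
    · rw [le_bot_iff.1 ((topologicalKrullDim_le_iff qX hT ⊥).2 (fun x hx => hx.elim)), WithBot.bot_add]
      exact bot_le
    · have hj : j ≤ n := le_trans (by omega) (h x₀ hx₀)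
      have h1 : topologicalKrullDim ↥T ≤ ((n - j : ℕ) : WithBot ℕ∞) :=
        (topologicalKrullDim_le_iff qX hT _).2 fun x hx => by
          have := h x hx
          exact_mod_cast (by omega : pdim qX x ≤ n - j)
      refine le_trans (add_le_add_left h1 _) ?_
      rw [← Nat.cast_add, Nat.sub_add_cancel hj]

theorem add_nat_cancel (A B : WithBot ℕ∞) (d : ℕ) :
    A + (d : WithBot ℕ∞) ≤ B + (d : WithBot ℕ∞) ↔ A ≤ B := by
  refine ⟨fun h => ?_, fun h => add_le_add_left h _⟩
  induction A using WithBot.recBotCoe with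
  | bot => exact bot_le
  | coe A =>
    induction B using WithBot.recBotCoe with
    | bot =>
      rw [WithBot.bot_add, le_bot_iff, show (d : WithBot ℕ∞) = ((d : ℕ∞) : WithBot ℕ∞) from rfl,
        ← WithBot.coe_add] at h
      exact absurd h WithBot.coe_ne_bot
    | coe B =>
      rw [show (d : WithBot ℕ∞) = ((d : ℕ∞) : WithBot ℕ∞) from rfl, ← WithBot.coe_add, ← WithBot.coe_add,
        WithBot.coe_le_coe] at h
      exact WithBot.coe_le_coe.2 ((WithTop.add_le_add_iff_right (ENat.natCast_ne_top d)).1 h)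

/-- The generic point of a component of a locally closed subset. -/
theorem exists_component (qX : X ⟶ Spec (CommRingCat.of K)) [LocallyOfFiniteType qX] {T : Set X}
    (hT : IsLocallyClosed T) {Q : Set ↥T} (hQ : Q ∈ irreducibleComponents ↥T) :
    ∃ ζ ∈ T, (∀ z ∈ T, z ⤳ ζ → z = ζ) ∧ (∀ q ∈ Q, ζ ⤳ q.1) ∧
      topologicalKrullDim ↥Q = (pdim qX ζ : WithBot ℕ∞) := by
  haveI := quasiSober_of_isLocallyClosed hT
  have hQc := isClosed_of_mem_irreducibleComponents Q hQ
  have hg := hQ.1.isGenericPoint_genericPoint hQc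
  refine ⟨(hQ.1.genericPoint).1, (hQ.1.genericPoint).2, fun z hz hzζ => ?_,
    fun q hq => (subtype_specializes_iff _ _).1 (hg.specializes hq), ?_⟩
  · have hz' : (⟨z, hz⟩ : T) ⤳ hQ.1.genericPoint := (subtype_specializes_iff _ _).2 hzζ
    have hzQ : (⟨z, hz⟩ : T) ∈ Q := hQ.2 isIrreducible_singleton.closure
      (fun a ha => specializes_iff_mem_closure.1 (hz'.trans (hg.specializes ha)))
      (subset_closure rfl)
    exact congrArg Subtype.val (hz'.antisymm (hg.specializes hzQ)).eq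
  · let ζ := hQ.1.genericPoint
    have e : Subtype.val '' Q = closure {ζ.1} ∩ T := by
      ext x
      constructor
      · rintro ⟨q, hq, rfl⟩
        exact ⟨specializes_iff_mem_closure.1 ((subtype_specializes_iff _ _).1 (hg.specializes hq)), q.2⟩
      · rintro ⟨hx, hxT⟩
        refine ⟨⟨x, hxT⟩, ?_, rfl⟩
        exact (hg.specializes_iff_mem).1 ((subtype_specializes_iff _ _).2 (specializes_iff_mem_closure.2 hx))
    have hloc : IsLocallyClosed (Subtype.val '' Q) := e ▸ isClosed_closure.isLocallyClosed.inter hT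
    have h1 : topologicalKrullDim ↥Q = topologicalKrullDim ↥(Subtype.val '' Q) :=
      IsHomeomorph.topologicalKrullDim_eq _
        (Topology.IsEmbedding.subtypeVal.homeomorphImage Q).isHomeomorph
    rw [h1]
    refine topologicalKrullDim_eq qX hloc (e.symm.subset ⟨subset_closure rfl, ζ.2⟩) fun y hy => ?_
    exact pdim_le qX (specializes_iff_mem_closure.2 (e.subset hy).1)

theorem pdim_comp_preimmersion {W : Scheme.{u}} (qX : X ⟶ Spec (CommRingCat.of K)) (ι : W ⟶ X)
    [IsPreimmersion ι] [LocallyOfFiniteType (ι ≫ qX)] (w : W) : pdim (ι ≫ qX) w = pdim qX (ι.base w) := by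
  rw [pdim_eq_add (ι ≫ qX) qX ι rfl w, tdAt,
    FieldDim.trdegAt_eq_zero_of_surjective ι _ (FieldDim.residueFieldMap_surjective _ _)]
  simp

/-- `V(rs)` inside an affine open over which an immersion is closed. -/
theorem mem_range_iff {W : Scheme.{u}} (ι : W ⟶ X) {U : X.Opens} (hU : IsAffineOpen U)
    [IsClosedImmersion (ι ∣_ U)] (rs : List Γ(X, U)) (hker : RingHom.ker (ι.app U).hom = Ideal.ofList rs)
    {z : X} (hz : z ∈ U) : z ∈ Set.range ι.base ↔ ∀ r ∈ rs, z ∉ X.basicOpen r := by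
  constructor
  · rintro ⟨w, rfl⟩ r hr hmem
    have h0 : ι.app U r = 0 := by
      have : r ∈ RingHom.ker (ι.app U).hom := hker ▸ Ideal.subset_span hr
      exact this
    have : w ∈ ι ⁻¹ᵁ X.basicOpen r := hmem
    rw [Scheme.preimage_basicOpen, h0, Scheme.basicOpen_zero] at this
    exact this
  · intro hall
    by_contra hzr
    haveI : IsAffine (U : Scheme.{u}) := hU
    obtain ⟨O, hO, hzO⟩ : ∃ O : X.Opens, (∀ w, ι.base w ∉ O) ∧ z ∈ O := by
      have hcl : IsClosed (Set.range (ι ∣_ U).base) := (ι ∣_ U).isClosedEmbedding.isClosed_range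
      obtain ⟨O', hO', hOO⟩ := isOpen_induced_iff.1 hcl.isOpen_compl
      refine ⟨⟨O' ∩ U, hO'.inter U.2⟩, fun w hw => ?_, ?_⟩
      · have hw' : ι.base w ∈ O' ∧ ι.base w ∈ U := hw
        have h1 : (⟨ι.base w, hw'.2⟩ : (U : Set X)) ∈ Subtype.val ⁻¹' O' := hw'.1
        exact (Set.ext_iff.1 hOO _).1 h1 ⟨⟨w, hw'.2⟩, by apply Subtype.ext; simp [morphismRestrict_base]⟩
      · refine ⟨?_, hz⟩
        have h1 : (⟨z, hz⟩ : U) ∈ (Set.range (ι ∣_ U).base)ᶜ := by
          rintro ⟨w, hw⟩
          exact hzr ⟨w.1, by have := congrArg Subtype.val hw; simpa [morphismRestrict_base] using this⟩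
        exact (Set.ext_iff.1 hOO _).2 h1
    obtain ⟨a, haO, hza⟩ := hU.exists_basicOpen_le (V := O) ⟨z, hzO⟩ hz
    have hcomp : IsCompact (↑(ι ⁻¹ᵁ U) : Set W) := by
      haveI : IsAffine ((ι ⁻¹ᵁ U : W.Opens) : Scheme.{u}) := isAffine_of_isAffineHom (ι ∣_ U)
      exact IsAffineOpen.isCompact ‹_›
    obtain ⟨m, hm⟩ : IsNilpotent (ι.app U a) := by
      rw [Scheme.isNilpotent_iff_basicOpen_eq_bot_of_isCompact hcomp, ← Scheme.preimage_basicOpen]
      ext w
      simp only [Opens.coe_bot, Set.mem_empty_iff_false, iff_false]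
      exact fun hw => hO w (haO hw)
    rw [← map_pow] at hm
    have hmem : a ^ m ∈ Ideal.ofList rs := hker ▸ hm
    have hle : Ideal.ofList rs ≤ (IsLocalRing.maximalIdeal _).comap (X.presheaf.germ U z hz).hom :=
      Ideal.span_le.2 fun r hr hu => hall r hr ((X.mem_basicOpen r z hz).2 hu)
    have hu : IsUnit (X.presheaf.germ U z hz (a ^ m)) := by
      rw [map_pow]; exact ((X.mem_basicOpen a z hz).1 hza).pow m
    exact hle hmem hu

/-- Krull: cutting by a regular immersion of codimension `c` lowers dimension by at most `c`. -/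
theorem pdim_le_add_of_maximal {W : Scheme.{u}} (qC : C ⟶ Spec (CommRingCat.of K)) [LocallyOfFiniteType qC]
    (π : C ⟶ X) (ι : W ⟶ X) {κ : RegImm.Kind} {c : ℕ} (hι : RegImm.IsRegularImmersionOfCodim κ c ι)
    {ξ ζ : C} (hξ : ξ ⤳ ζ) (hζ : π.base ζ ∈ Set.range ι.base)
    (hmax : ∀ z, ξ ⤳ z → z ⤳ ζ → π.base z ∈ Set.range ι.base → z = ζ) :
    pdim qC ξ ≤ pdim qC ζ + c := by
  obtain ⟨w, hw⟩ := hζ
  obtain ⟨U, hwU, hcl, rs, hlen, -, hker⟩ := hι.2 w
  haveI := hcl
  have hζU : π.base ζ ∈ U.1 := hw ▸ hwU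
  let A := Cyc.LocQuot ζ ξ hξ
  let a : Γ(X, U.1) → A := fun r =>
    Ideal.Quotient.mk _ (C.presheaf.germ (π ⁻¹ᵁ U.1) ζ hζU (π.app U.1 r))
  haveI : IsNoetherianRing (C.presheaf.stalk ζ) := by
    haveI : IsLocallyNoetherian C := LocallyOfFiniteType.isLocallyNoetherian qC
    infer_instance
  haveI : Nontrivial A := Ideal.Quotient.nontrivial_iff.2 (RingHom.ker_ne_top _)
  haveI : IsLocalRing A := IsLocalRing.of_surjective' _ Ideal.Quotient.mk_surjective
  classical
  let s : Finset A := (rs.map a).toFinset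
  have hsmax : IsLocalRing.maximalIdeal A ∈ (Ideal.span (s : Set A)).minimalPrimes := by
    refine ⟨⟨inferInstance, ?_⟩, fun Q hQ _ => ?_⟩
    · rw [Ideal.span_le]
      intro y hy
      obtain ⟨r, hr, rfl⟩ := List.mem_map.1 (List.mem_toFinset.1 hy)
      intro hu
      have hloc : IsLocalHom (Ideal.Quotient.mk (RingHom.ker (Cyc.specMap ζ ξ hξ))) :=
        IsLocalHom.of_surjective _ Ideal.Quotient.mk_surjective
      have hu' := isUnit_of_map_unit _ _ hu
      exact (mem_range_iff ι U.2 rs hker hζU).1 ⟨w, hw⟩ r hr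
        (show ζ ∈ π ⁻¹ᵁ X.basicOpen r by rw [Scheme.preimage_basicOpen]; exact (C.mem_basicOpen _ ζ hζU).2 hu')
    · haveI := hQ.1
      let q : PrimeSpectrum (C.presheaf.stalk ζ) := PrimeSpectrum.comap (Ideal.Quotient.mk _) ⟨Q, hQ.1⟩
      let z := C.fromSpecStalk ζ q
      have hzζ : z ⤳ ζ := DimFun.fromSpecStalk_specializes_self ζ q
      have hq : q = DimFun.genPrime ζ z hzζ := DimFun.eq_genPrime ζ q
      have hξz : ξ ⤳ z := by
        rw [← DimFun.genPrime_le_iff ζ ξ z hξ hzζ, ← hq]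
        intro b hb
        show Ideal.Quotient.mk (RingHom.ker (Cyc.specMap ζ ξ hξ)) b ∈ Q
        rw [Ideal.Quotient.eq_zero_iff_mem.2 (show b ∈ RingHom.ker (Cyc.specMap ζ ξ hξ) from hb)]
        exact Q.zero_mem
      have hzU : z ∈ π ⁻¹ᵁ U.1 := hzζ.mem_open (π ⁻¹ᵁ U.1).2 hζU
      have hzι : π.base z ∈ Set.range ι.base := by
        refine (mem_range_iff ι U.2 rs hker hzU).2 fun r hr hmem => ?_
        have hz2 : z ∈ C.basicOpen (π.app U.1 r) := by rw [← Scheme.preimage_basicOpen]; exact hmem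
        have hu := (C.mem_basicOpen _ z hzU).1 hz2
        have hmemq : C.presheaf.germ (π ⁻¹ᵁ U.1) ζ hζU (π.app U.1 r) ∈ q.asIdeal :=
          hQ.2 (Ideal.subset_span (List.mem_toFinset.2 (List.mem_map.2 ⟨r, hr, rfl⟩)))
        rw [hq, DimFun.genPrime_eq] at hmemq
        have hmemq' : (C.presheaf.stalkSpecializes hzζ).hom (C.presheaf.germ (π ⁻¹ᵁ U.1) ζ hζU (π.app U.1 r)) ∈
            IsLocalRing.maximalIdeal _ := hmemq
        apply hmemq'
        have e : (C.presheaf.stalkSpecializes hzζ).hom (C.presheaf.germ (π ⁻¹ᵁ U.1) ζ hζU (π.app U.1 r)) =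
            C.presheaf.germ (π ⁻¹ᵁ U.1) z hzU (π.app U.1 r) :=
          C.presheaf.germ_stalkSpecializes_apply (y := ζ) hζU hzζ _
        exact e ▸ hu
      have hz : z = ζ := hmax z hξz hzζ hzι
      have hqmax : q = IsLocalRing.closedPoint _ := DimFun.fromSpecStalk_injective ζ (hz.trans Scheme.fromSpecStalk_closedPoint.symm)
      intro y hy
      obtain ⟨b, rfl⟩ := Ideal.Quotient.mk_surjective y
      have : b ∈ IsLocalRing.maximalIdeal (C.presheaf.stalk ζ) := fun hu => hy (hu.map _)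
      have hb : b ∈ q.asIdeal := hqmax ▸ this
      exact hb
  have h1 := Ideal.height_le_card_of_mem_minimalPrimes_span_finset hsmax
  have h2 : ringKrullDim A ≤ (c : WithBot ℕ∞) := by
    rw [← IsLocalRing.maximalIdeal_height_eq_ringKrullDim]
    have hcard : s.card ≤ c := hlen ▸ (List.toFinset_card_le _).trans (by rw [List.length_map])
    exact_mod_cast h1.trans (by exact_mod_cast hcard)
  rw [DimFun.ringKrullDim_locQuot (FieldDim.isDimFun_fdelta qC) ζ ξ hξ] at h2
  simp only [fdelta_eq] at h2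
  have h3 : (((pdim qC ξ : ℤ)) - (pdim qC ζ : ℤ)).toNat ≤ c := by exact_mod_cast h2
  omega

end Groth.Agent.H75.VarDimX
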